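import Groth.Agent.Lib.AlgSp.RefinedValuative
import Groth.Agent.Lib.GrpdQuot.InvariantOpen
import Mathlib.AlgebraicGeometry.ValuativeCriterion

/-!
# Valuative criteria tested on a dense source
-/

universe u

open CategoryTheory CategoryTheory.Limits AlgebraicGeometry TopologicalSpace
open scoped TensorProduct

set_option backward.isDefEq.respectTransparency false

namespace GrothLib.DenseVal9

open GrothLib.AlgSp

theorem preimage_eq_top {R : Type u} [CommRing R] [IsLocalRing R] {S : Scheme.{u}}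
    (g : Spec (CommRingCat.of R) ⟶ S) (V : S.Opens)
    (h : g (IsLocalRing.closedPoint R) ∈ V) : g ⁻¹ᵁ V = ⊤ :=
  eq_top_iff.2 fun p _ ↦
    ((IsLocalRing.specializes_closedPoint p).map g.continuous).mem_open V.2 h

/-- A map from a local scheme with closed point in an affine open factors through it. -/
theorem exists_ringHom_of_mem {R : Type u} [CommRing R] [IsLocalRing R] {S : Scheme.{u}}
    (g : Spec (CommRingCat.of R) ⟶ S) {V : S.Opens} (hV : IsAffineOpen V)
    (h : g (IsLocalRing.closedPoint R) ∈ V) :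
    ∃ c : Γ(S, V) ⟶ CommRingCat.of R, g = Spec.map c ≫ hV.fromSpec := by
  have hr : Set.range g ⊆ Set.range hV.fromSpec := by
    rw [hV.range_fromSpec]
    rintro _ ⟨p, rfl⟩
    exact (preimage_eq_top g V h).ge (Set.mem_univ p)
  exact ⟨Spec.preimage (IsOpenImmersion.lift hV.fromSpec g hr),
    by rw [Spec.map_preimage, IsOpenImmersion.lift_fac]⟩

/-- A common extension of two fields over a common subfield. -/
theorem exists_common_extension {k K L : Type u} [Field k] [Field K] [Field L] (a : k →+* K) (b : k →+* L) :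
    ∃ (Ω : Type u) (_ : Field Ω) (a' : K →+* Ω) (b' : L →+* Ω), a'.comp a = b'.comp b := by
  let := a.toAlgebra
  let := b.toAlgebra
  obtain ⟨m, hm⟩ := Ideal.exists_maximal (K ⊗[k] L)
  refine ⟨(K ⊗[k] L) ⧸ m, Ideal.Quotient.field m,
    (Ideal.Quotient.mk m).comp Algebra.TensorProduct.includeLeftRingHom,
    (Ideal.Quotient.mk m).comp Algebra.TensorProduct.includeRight.toRingHom, RingHom.ext fun x ↦ ?_⟩
  show Ideal.Quotient.mk m (algebraMap k K x ⊗ₜ 1) = Ideal.Quotient.mk m (1 ⊗ₜ algebraMap k L x)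
  rw [Algebra.algebraMap_eq_smul_one, Algebra.algebraMap_eq_smul_one, TensorProduct.smul_tmul]

variable {U X S : Scheme.{u}} (f : X ⟶ S) (h : U ⟶ X) [QuasiCompact h]

/-- Existence in the valuative criterion follows from unique lifts for the squares whose generic
point comes from a dense source. -/
theorem existence_of_dense (hd : DenseRange h.base)
    (H : ∀ sq : ValuativeCommSq f, (∃ i : Spec (.of sq.K) ⟶ U, i ≫ h = sq.i₁) →
      Nonempty (Unique sq.commSq.LiftStruct)) :
    ValuativeCriterion.Existence f := by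
  rintro ⟨R, K, i₁, i₂, hsq⟩
  let ξ := i₁ (IsLocalRing.closedPoint K)
  obtain ⟨jK, hjK⟩ : ∃ jK : X.residueField ξ ⟶ CommRingCat.of K,
      Spec.map jK ≫ X.fromSpecResidueField ξ = i₁ :=
    ⟨_, Scheme.descResidueField_stalkClosedPointTo_fromSpecResidueField K X i₁⟩
  have hξ : ξ ∈ closure (h.base '' Set.univ) := by
    rw [Set.image_univ]
    exact hd ξ
  obtain ⟨w, -, hw⟩ := GrpdQuot.exists_specializes_of_mem_closure h Set.univ isClosed_univ ξ hξ
  let eU := U.fromSpecResidueField w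
  obtain ⟨A₁, σ₁, hσ₁, hgen₁⟩ := exists_valuation_point (L := ↥(U.residueField w)) (eU ≫ h) ξ
    ((congrArg h.base (Scheme.fromSpecResidueField_apply w (IsLocalRing.closedPoint _))).symm ▸ hw :)
  let p₁ : Spec (CommRingCat.of (IsLocalRing.ResidueField A₁)) ⟶ X :=
    Spec.map (CommRingCat.ofHom (IsLocalRing.residue A₁)) ≫ σ₁
  have hp₁ : p₁ (IsLocalRing.closedPoint (IsLocalRing.ResidueField A₁)) = ξ := by
    rw [← hσ₁, Scheme.Hom.comp_apply]
    congr 1
    exact IsLocalRing.comap_closedPoint (IsLocalRing.residue A₁)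
  obtain ⟨j₁, hj₁⟩ : ∃ j₁ : X.residueField ξ ⟶ CommRingCat.of (IsLocalRing.ResidueField A₁),
      Spec.map j₁ ≫ X.fromSpecResidueField ξ = p₁ := by
    rw [← hp₁]
    exact ⟨_, Scheme.descResidueField_stalkClosedPointTo_fromSpecResidueField _ X p₁⟩
  obtain ⟨Ω, _, aK, b₁, hab⟩ := exists_common_extension jK.hom j₁.hom
  obtain ⟨K₂, _, A₂, i, φ, ι, hφ, hφr⟩ :=
    ValGlue.exists_extension_residue (A := A₁) (K := ↥(U.residueField w))
      (b₁.comp (IsLocalRing.residue A₁))
  let σ₂ : Spec (CommRingCat.of A₂) ⟶ X := Spec.map (CommRingCat.ofHom φ) ≫ σ₁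
  let τ : K →+* IsLocalRing.ResidueField A₂ := ι.comp aK
  have hres : Spec.map (CommRingCat.ofHom (IsLocalRing.residue A₂)) ≫ σ₂ =
      Spec.map (CommRingCat.ofHom τ) ≫ i₁ := by
    rw [← hjK, ← Spec.map_comp_assoc, ← Spec.map_comp_assoc, ← CommRingCat.ofHom_comp, hφr,
      ← RingHom.comp_assoc, CommRingCat.ofHom_comp, Spec.map_comp, Category.assoc]
    show _ ≫ p₁ = _
    rw [← hj₁, ← Spec.map_comp_assoc]
    congr 2
    refine CommRingCat.hom_ext ?_
    show (ι.comp b₁).comp j₁.hom = (ι.comp aK).comp jK.hom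
    rw [RingHom.comp_assoc, RingHom.comp_assoc, hab]
  -- the valuation ring of the residue field
  let θ : R →+* IsLocalRing.ResidueField A₂ := τ.comp (algebraMap R K)
  obtain ⟨Ā, hĀ, hĀloc⟩ := IsLocalRing.exists_factor_valuationRing θ
  let θ' : R →+* Ā := θ.codRestrict Ā.toSubring hĀ
  have : IsLocalHom θ' := hĀloc
  let B := ValGlue.composite A₂ Ā
  -- the bottom map
  obtain ⟨V, hV, hVs, -⟩ :=
    exists_isAffineOpen_mem_and_subset (Opens.mem_top (i₂ (IsLocalRing.closedPoint R)))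
  have : IsAffine V.toScheme := hV
  let σ₀ : Spec (CommRingCat.of Ā) ⟶ S := Spec.map (CommRingCat.ofHom θ') ≫ i₂
  have h₀ : σ₀ (IsLocalRing.closedPoint Ā) ∈ V := by
    rw [Scheme.Hom.comp_apply]
    rwa [show Spec.map (CommRingCat.ofHom θ') (IsLocalRing.closedPoint Ā) =
      IsLocalRing.closedPoint R from IsLocalRing.comap_closedPoint θ']
  have hcompat : Spec.map (CommRingCat.ofHom (IsLocalRing.residue A₂)) ≫ σ₂ ≫ f =
      Spec.map (CommRingCat.ofHom (algebraMap Ā (IsLocalRing.ResidueField A₂))) ≫ σ₀ := by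
    rw [reassoc_of% hres, hsq.w, ← Spec.map_comp_assoc, ← Spec.map_comp_assoc]
    rfl
  have h₂ : (σ₂ ≫ f) (IsLocalRing.closedPoint A₂) ∈ V := by
    have e : (IsLocalRing.closedPoint A₂ : Spec (CommRingCat.of A₂)) =
        Spec.map (CommRingCat.ofHom (IsLocalRing.residue A₂))
          (IsLocalRing.closedPoint (IsLocalRing.ResidueField A₂)) :=
      (IsLocalRing.comap_closedPoint (IsLocalRing.residue A₂)).symm
    rw [e, ← Scheme.Hom.comp_apply, hcompat, Scheme.Hom.comp_apply]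
    exact (preimage_eq_top σ₀ V h₀).ge (Set.mem_univ _)
  obtain ⟨c₀, hc₀⟩ := exists_ringHom_of_mem σ₀ hV h₀
  obtain ⟨c₂, hc₂⟩ := exists_ringHom_of_mem (σ₂ ≫ f) hV h₂
  obtain ⟨σ, hσA, hσ0⟩ := exists_glue (V := V.toScheme) A₂ Ā (Spec.map c₂ ≫ hV.isoSpec.inv)
    (Spec.map c₀ ≫ hV.isoSpec.inv) (by
      rw [← cancel_mono V.ι]
      simp only [Category.assoc, IsAffineOpen.isoSpec_inv_ι]
      rw [← hc₀, ← hc₂]
      exact hcompat)
  let bot : Spec (CommRingCat.of B) ⟶ S := σ ≫ V.ι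
  have hbotA : Spec.map (CommRingCat.ofHom (ValGlue.compositeIncl A₂ Ā)) ≫ bot = σ₂ ≫ f := by
    rw [← Category.assoc, hσA, Category.assoc, IsAffineOpen.isoSpec_inv_ι, ← hc₂]
  have hbot0 : Spec.map (CommRingCat.ofHom (ValGlue.compositeπ A₂ Ā)) ≫ bot = σ₀ := by
    rw [← Category.assoc, hσ0, Category.assoc, IsAffineOpen.isoSpec_inv_ι, ← hc₀]
  let top₂ : Spec (CommRingCat.of K₂) ⟶ X := Spec.map (CommRingCat.ofHom i) ≫ eU ≫ h
  have htop₂ : Spec.map (CommRingCat.ofHom A₂.subtype) ≫ σ₂ = top₂ := by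
    rw [← Spec.map_comp_assoc, ← CommRingCat.ofHom_comp, hφ, CommRingCat.ofHom_comp, Spec.map_comp,
      Category.assoc]
    exact congrArg (Spec.map (CommRingCat.ofHom i) ≫ ·) hgen₁
  have hBincl : Spec.map (CommRingCat.ofHom (algebraMap B K₂)) =
      Spec.map (CommRingCat.ofHom A₂.subtype) ≫
        Spec.map (CommRingCat.ofHom (ValGlue.compositeIncl A₂ Ā)) := by
    rw [← Spec.map_comp]; rfl
  let sqB : ValuativeCommSq f := ⟨B, K₂, top₂, bot, ⟨((congrArg (· ≫ f) htop₂.symm).trans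
    ((Category.assoc _ _ _).trans (congrArg (Spec.map (CommRingCat.ofHom A₂.subtype) ≫ ·)
      hbotA.symm))).trans ((Category.assoc _ _ _).symm.trans
        (congrArg (· ≫ bot) hBincl.symm))⟩⟩
  obtain ⟨uB⟩ := H sqB ⟨Spec.map (CommRingCat.ofHom i) ≫ eU, Category.assoc _ _ _⟩
  let l : Spec (CommRingCat.of B) ⟶ X := uB.default.l
  have hl₁ : Spec.map (CommRingCat.ofHom (algebraMap B K₂)) ≫ l = top₂ := uB.default.fac_left
  have hl₂ : l ≫ f = bot := uB.default.fac_right
  -- restriction to `A₂`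
  let sqA : ValuativeCommSq f := ⟨A₂, K₂, top₂, σ₂ ≫ f, ⟨by
    rw [← htop₂, Category.assoc]; rfl⟩⟩
  obtain ⟨uA⟩ := H sqA ⟨Spec.map (CommRingCat.ofHom i) ≫ eU, Category.assoc _ _ _⟩
  let L1 : sqA.commSq.LiftStruct :=
    ⟨Spec.map (CommRingCat.ofHom (ValGlue.compositeIncl A₂ Ā)) ≫ l,
      (Category.assoc _ _ _).symm.trans ((congrArg (· ≫ l) hBincl.symm).trans hl₁),
      (Category.assoc _ _ _).trans ((congrArg (_ ≫ ·) hl₂).trans hbotA)⟩
  let L2 : sqA.commSq.LiftStruct := ⟨σ₂, htop₂, rfl⟩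
  have hLA : Spec.map (CommRingCat.ofHom (ValGlue.compositeIncl A₂ Ā)) ≫ l = σ₂ :=
    congrArg CommSq.LiftStruct.l ((uA.uniq L1).trans (uA.uniq L2).symm)
  let l₀ : Spec (CommRingCat.of Ā) ⟶ X := Spec.map (CommRingCat.ofHom (ValGlue.compositeπ A₂ Ā)) ≫ l
  have hl₀f : l₀ ≫ f = σ₀ := by rw [Category.assoc, hl₂, hbot0]
  have hl₀gen : Spec.map (CommRingCat.ofHom Ā.subtype) ≫ l₀ = Spec.map (CommRingCat.ofHom τ) ≫ i₁ := by
    rw [← hres, ← hLA, ← Spec.map_comp_assoc, ← Spec.map_comp_assoc]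
    rfl
  -- descent to `R`
  obtain ⟨W, hW, hWx, -⟩ :=
    exists_isAffineOpen_mem_and_subset (Opens.mem_top (l₀ (IsLocalRing.closedPoint Ā)))
  obtain ⟨b, hb⟩ := exists_ringHom_of_mem l₀ hW hWx
  have hiW : i₁ (IsLocalRing.closedPoint K) ∈ W := by
    have e : i₁ (IsLocalRing.closedPoint K) =
        (Spec.map (CommRingCat.ofHom τ) ≫ i₁) (IsLocalRing.closedPoint _) := by
      rw [Scheme.Hom.comp_apply]
      congr 1
      exact Subsingleton.elim _ _
    rw [e, ← hl₀gen, Scheme.Hom.comp_apply]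
    exact (preimage_eq_top l₀ W hWx).ge (Set.mem_univ _)
  obtain ⟨a, ha⟩ := exists_ringHom_of_mem i₁ hW hiW
  have hτ : ∀ x, τ (a.hom x) = (b.hom x : IsLocalRing.ResidueField A₂) := fun x ↦ by
    have e : b ≫ CommRingCat.ofHom Ā.subtype = a ≫ CommRingCat.ofHom τ := by
      apply Spec.map_injective
      rw [← cancel_mono hW.fromSpec, Spec.map_comp, Spec.map_comp, Category.assoc, Category.assoc,
        ← hb, ← ha, hl₀gen]
    exact (congrArg (fun q : Γ(X, W) ⟶ _ ↦ q.hom x) e).symm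
  have hint : ∀ x, ∃ r, algebraMap R K r = a.hom x := fun x ↦ by
    by_cases h0 : a.hom x = 0
    · exact ⟨0, by rw [h0, map_zero]⟩
    obtain ⟨r, hr⟩ | ⟨r, hr⟩ := ValuationRing.isInteger_or_isInteger R (a.hom x)
    · exact ⟨r, hr⟩
    · have hr' : algebraMap R K r = (a.hom x)⁻¹ := hr
      have hu : IsUnit (θ' r) := IsUnit.of_mul_eq_one (b.hom x) (Subtype.ext (by
        show τ (algebraMap R K r) * (b.hom x : IsLocalRing.ResidueField A₂) = 1
        rw [← hτ, hr', ← map_mul, inv_mul_cancel₀ h0, map_one]))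
      obtain ⟨v, hv⟩ := (isUnit_of_map_unit θ' r hu).exists_right_inv
      refine ⟨v, mul_left_cancel₀ (inv_ne_zero h0) ?_⟩
      rw [inv_mul_cancel₀ h0, ← hr', ← map_mul, hv, map_one]
  choose c hc using hint
  have hRinj : Function.Injective (algebraMap R K) := IsFractionRing.injective R K
  let cR : Γ(X, W) →+* R :=
    { toFun := c
      map_one' := hRinj (by rw [hc, map_one, map_one])
      map_mul' := fun x y ↦ hRinj (by rw [map_mul, hc, hc, hc, map_mul])
      map_zero' := hRinj (by rw [hc, map_zero, map_zero])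
      map_add' := fun x y ↦ hRinj (by rw [map_add, hc, hc, hc, map_add]) }
  have hca : (algebraMap R K).comp cR = a.hom := RingHom.ext hc
  have hcb : θ'.comp cR = b.hom := RingHom.ext fun x ↦ Subtype.ext (by
    show τ (algebraMap R K (c x)) = _
    rw [hc, hτ])
  let lift : Spec (CommRingCat.of R) ⟶ X := Spec.map (CommRingCat.ofHom cR) ≫ hW.fromSpec
  have hlift₀ : Spec.map (CommRingCat.ofHom θ') ≫ lift = l₀ := by
    rw [hb, ← Spec.map_comp_assoc, ← CommRingCat.ofHom_comp, hcb]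
    rfl
  refine CommSq.HasLift.mk' ⟨lift, ?_, ?_⟩
  · rw [← Spec.map_comp_assoc, ← CommRingCat.ofHom_comp, hca]
    exact ha.symm
  · have hθinj : Function.Injective (CommRingCat.ofHom θ') := fun x y hxy ↦
      hRinj (τ.injective (congrArg Subtype.val hxy))
    refine eq_of_SpecMap_comp_eq_of_isAffineOpen (CommRingCat.ofHom θ') hθinj V hV
      (preimage_eq_top (lift ≫ f) V ?_) (preimage_eq_top i₂ V hVs) ?_
    · have e : (IsLocalRing.closedPoint R : Spec (CommRingCat.of R)) =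
          Spec.map (CommRingCat.ofHom θ') (IsLocalRing.closedPoint Ā) :=
        (IsLocalRing.comap_closedPoint θ').symm
      rw [e, ← Scheme.Hom.comp_apply, ← Category.assoc, hlift₀, hl₀f]
      exact h₀
    · rw [← Category.assoc, hlift₀, hl₀f]

/-- A quasi-compact morphism with unique lifts for squares from a dense source is universally
closed, and separated if it is quasi-separated. -/
theorem universallyClosed_and_isSeparated [QuasiCompact f] (hd : DenseRange h.base)
    (H : ∀ sq : ValuativeCommSq f, (∃ i : Spec (.of sq.K) ⟶ U, i ≫ h = sq.i₁) →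
      Nonempty (Unique sq.commSq.LiftStruct)) :
    UniversallyClosed f ∧ (QuasiSeparated f → IsSeparated f) := by
  refine ⟨UniversallyClosed.of_valuativeCriterion _ (existence_of_dense f h hd H), fun _ ↦ ?_⟩
  have key : ∀ sq : ValuativeCommSq (pullback.diagonal f),
      (∃ i : Spec (.of sq.K) ⟶ U, i ≫ h = sq.i₁) → Nonempty (Unique sq.commSq.LiftStruct) := by
    rintro ⟨R, K, i₁, i₂, hsq⟩ ⟨i, hi⟩
    let sq' : ValuativeCommSq f := ⟨R, K, i₁, i₂ ≫ pullback.fst f f ≫ f, ⟨by
      rw [← reassoc_of% hsq.w, pullback.diagonal_fst_assoc]⟩⟩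
    obtain ⟨u⟩ := H sq' ⟨i, hi⟩
    have e₁ : Spec.map (CommRingCat.ofHom (algebraMap R K)) ≫ i₂ ≫ pullback.fst f f = i₁ := by
      rw [← reassoc_of% hsq.w, pullback.diagonal_fst, Category.comp_id]
    have e₂ : Spec.map (CommRingCat.ofHom (algebraMap R K)) ≫ i₂ ≫ pullback.snd f f = i₁ := by
      rw [← reassoc_of% hsq.w, pullback.diagonal_snd, Category.comp_id]
    let La : sq'.commSq.LiftStruct := ⟨i₂ ≫ pullback.fst f f, e₁, Category.assoc _ _ _⟩
    let Lb : sq'.commSq.LiftStruct := ⟨i₂ ≫ pullback.snd f f, e₂, by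
      rw [Category.assoc, ← pullback.condition]⟩
    have hab : i₂ ≫ pullback.fst f f = i₂ ≫ pullback.snd f f :=
      congrArg CommSq.LiftStruct.l ((u.uniq La).trans (u.uniq Lb).symm)
    refine ⟨{ default := ⟨i₂ ≫ pullback.fst f f, e₁, ?_⟩, uniq := fun L ↦ CommSq.LiftStruct.ext ?_ }⟩
    · apply pullback.hom_ext
      · rw [Category.assoc, pullback.diagonal_fst, Category.comp_id]
      · rw [Category.assoc, pullback.diagonal_snd, Category.comp_id, hab]
    · show L.l = i₂ ≫ pullback.fst f f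
      refine Eq.trans ?_ (congrArg (· ≫ pullback.fst f f) L.fac_right)
      rw [Category.assoc, pullback.diagonal_fst, Category.comp_id]
  have hc : UniversallyClosed (pullback.diagonal f) :=
    UniversallyClosed.of_valuativeCriterion _
      (existence_of_dense (pullback.diagonal f) h hd key)
  exact ⟨IsClosedImmersion.of_isPreimmersion _ (pullback.diagonal f).isClosedMap.isClosed_range⟩

end GrothLib.DenseVal9
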